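import Cfsg.Agent.FFNatural.Rigid
import Cfsg.Agent.GLFourTwo.Subgroups
import Cfsg.Agent.GLFourTwo.Embed
import Cfsg.Agent.Forms4.ExceptionalTools
import Cfsg.Agent.Linear.Basic

/-!
Four field elements and a Sylow subgroup larger than the root: the group is `A₇`.
-/

set_option autoImplicit false
set_option linter.style.haveILetI false

namespace CfsgLib.FFNatural

open Subgroup Matrix CfsgLib.SL2Recognition CfsgLib.FFCells CfsgLib.Linear
open scoped MatrixGroups

variable {P V : Type*} [Group P] [AddCommGroup V] [Finite P] [Finite V]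
  {σ : P →* AddMonoid.End V} {p : ℕ} [Fact p.Prime] {S : Sylow p P} {B L : Subgroup P}

namespace Setting

variable (h : Setting σ S B L)
include h

/-- `L` is transitive on the nonzero vectors. -/
theorem exists_apply_eq {v w : V} (hv : v ≠ 0) (hw : w ≠ 0) : ∃ l ∈ L, σ l v = w := by
  set D := h.data
  obtain ⟨C, hC⟩ := CfsgLib.WeakClosed.Torus.exists_col
    (show D.ψ v ≠ 0 from fun e => hv (h.ψ_injective (e.trans (map_zero _).symm)))
  obtain ⟨C', hC'⟩ := CfsgLib.WeakClosed.Torus.exists_col
    (show D.ψ w ≠ 0 from fun e => hw (h.ψ_injective (e.trans (map_zero _).symm)))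
  refine ⟨(D.φ.symm (C' * C⁻¹) : L), SetLike.coe_mem _, h.ψ_injective ?_⟩
  rw [D.equiv, D.φ.apply_symm_apply, ← hC, ← hC', mulVec_mulVec, ← Matrix.SpecialLinearGroup.coe_mul,
    inv_mul_cancel_right]

theorem card_module : Nat.card V = Nat.card h.data.F * Nat.card h.data.F := by
  rw [h.data.card_eq_mul_fix, h.data.card_fix_root, h.fix_bot, AddSubgroup.card_bot, mul_one,
    h.data.card_root]

variable (hp : p = 2) (hF : Nat.card h.data.F = 4)
include hp hF

theorem card_sylow_le : Nat.card (S : Subgroup P) ≤ 8 := by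
  classical
  subst hp
  set D := h.data
  letI : MulAction (S : Subgroup P) {b : B // b ≠ 1} :=
    { smul := fun s b => ⟨⟨(s : P) * b.1.1 * (s : P)⁻¹, (h.cj_root s.2).le (conj_mem_cj b.1.2)⟩,
        fun e => b.2 (Subtype.ext (by
          have e' : (s : P) * b.1.1 * (s : P)⁻¹ = 1 := congrArg Subtype.val e
          exact mul_eq_left.1 (mul_inv_eq_one.1 e')))⟩
      one_smul := fun b => Subtype.ext (Subtype.ext (by
        show (1 : P) * b.1.1 * (1 : P)⁻¹ = b.1.1
        rw [one_mul, inv_one, mul_one]))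
      mul_smul := fun s t b => Subtype.ext (Subtype.ext (by
        show ((s : P) * t) * b.1.1 * ((s : P) * t)⁻¹ =
          (s : P) * ((t : P) * b.1.1 * (t : P)⁻¹) * (s : P)⁻¹
        group)) }
  set f := MulAction.toPermHom (S : Subgroup P) {b : B // b ≠ 1}
  have hcB : Nat.card B = 4 := D.card_root.trans hF
  have hc3 : Nat.card {b : B // b ≠ 1} = 3 := by
    haveI := Fintype.ofFinite B
    rw [Nat.card_eq_fintype_card, Fintype.card_subtype_compl, ← Nat.card_eq_fintype_card, hcB,
      Fintype.card_subtype_eq]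
  have hk : Nat.card f.ker ≤ 4 := by
    rw [← hcB]
    refine Nat.card_le_card_of_injective (fun k => (⟨(k.1 : P), h.mem_root_of_commute k.1.2 fun b hb => ?_⟩ : B))
      fun k k' e => Subtype.ext (Subtype.ext (congrArg (fun z : B => (z : P)) e))
    by_cases hb1 : b = 1
    · rw [hb1, mul_one, one_mul]
    have := congrArg (fun z : {b : B // b ≠ 1} => (z.1 : P))
      (Equiv.ext_iff.1 k.2 ⟨⟨b, hb⟩, fun e => hb1 (congrArg Subtype.val e)⟩)
    exact mul_inv_eq_iff_eq_mul.1 this
  have hr : Nat.card f.range ≤ 2 := by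
    have hd : Nat.card f.range ∣ 6 := by
      refine (Subgroup.card_subgroup_dvd_card f.range).trans (dvd_of_eq ?_)
      rw [Nat.card_perm, hc3]; rfl
    obtain ⟨k, hk⟩ := IsPGroup.iff_card.1 (S.isPGroup'.of_surjective f.rangeRestrict
      f.rangeRestrict_surjective)
    rw [hk] at hd ⊢
    have : k ≤ 1 := by
      by_contra hk2
      have := (pow_dvd_pow 2 (show 2 ≤ k by omega)).trans hd
      norm_num at this
    exact (Nat.pow_le_pow_right (by norm_num) this).trans (by norm_num)
  have e := f.ker.card_mul_index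
  rw [Subgroup.index_ker] at e
  rw [← e]
  exact (Nat.mul_le_mul hk hr).trans (by norm_num)

theorem equiv_alt_seven {r : P} (hr : r ∈ (S : Subgroup P)) (hrB : r ∉ B) (hL : ¬ L.Normal)
    (φA : P →* alternatingGroup (Fin 8)) (hφA : Function.Injective φA) :
    Nonempty (P ≃* alternatingGroup (Fin 7)) := by
  classical
  subst hp
  set D := h.data
  have hFf : Fintype.card D.F = 4 := (Nat.card_eq_fintype_card).symm.trans hF
  have hcB : Nat.card B = 4 := D.card_root.trans hF
  have hcL : Nat.card L = 60 := by rw [D.card_L, card_SL_two, hFf]; norm_num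
  have hcV : Nat.card V = 16 := by rw [h.card_module, hF]
  -- the Sylow subgroup
  have hS : Nat.card (S : Subgroup P) = 8 := by
    refine le_antisymm (h.card_sylow_le rfl hF) ?_
    obtain ⟨k, hk⟩ := Subgroup.card_dvd_of_le h.le
    rw [hcB] at hk
    rcases k with _ | _ | k
    · exact absurd (hk ▸ Nat.card_pos (α := (S : Subgroup P))) (by norm_num)
    · exact absurd ((eq_of_le_of_card_ge h.le (by rw [hcB, hk])).ge hr) hrB
    · rw [hk]; omega
  -- the stabiliser of a fixed vector
  obtain ⟨v', -, hne⟩ := h.fix_root_ne_bot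
  obtain ⟨v₀, hv₀, hv0⟩ := exists_fix_ne_zero σ h.exp S.isPGroup' hne
  have hidx : (stab σ v₀).index = 15 := by
    letI : MulAction P V :=
      { smul := fun g v => σ g v
        one_smul := apply_one σ
        mul_smul := fun g k v => apply_mul σ g k v }
    have horb : MulAction.orbit P v₀ = {v | v ≠ 0} := by
      ext v
      constructor
      · rintro ⟨g, rfl⟩ e
        exact hv0 (apply_injective σ g ((show σ g v₀ = 0 from e).trans (map_zero (σ g)).symm))
      · intro hv
        obtain ⟨l, -, hl⟩ := h.exists_apply_eq hv0 (show v ≠ 0 from hv)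
        exact ⟨l, hl⟩
    rw [show stab σ v₀ = MulAction.stabilizer P v₀ from rfl, MulAction.index_stabilizer, horb]
    haveI := Fintype.ofFinite V
    rw [← Nat.card_coe_set_eq, Nat.card_eq_fintype_card]
    show Fintype.card {v : V // v ≠ 0} = 15
    rw [Fintype.card_subtype_compl, ← Nat.card_eq_fintype_card, hcV, Fintype.card_subtype_eq]
  -- the order
  have hdA : Nat.card P ∣ 20160 :=
    CfsgLib.GLFourTwo.card_alternating_eight ▸ Subgroup.card_dvd_of_injective φA hφA
  obtain ⟨m, hm, hm21⟩ : ∃ m, Nat.card P = 120 * m ∧ m ∣ 21 := by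
    obtain ⟨j, hj⟩ := Subgroup.card_dvd_of_le (show (S : Subgroup P) ≤ stab σ v₀ from fun s hs => hv₀ s hs)
    rw [hS] at hj
    have e := (stab σ v₀).card_mul_index
    rw [hidx, hj] at e
    refine ⟨j, by omega, ?_⟩
    have hodd : ¬ 2 ∣ (S : Subgroup P).index := S.not_dvd_index
    have hmi := (S : Subgroup P).card_mul_index
    rw [hS] at hmi
    rw [show Nat.card P = 120 * j by omega, show (20160 : ℕ) = 120 * (8 * 21) from rfl] at hdA
    have hjd : j ∣ 8 * 21 := Nat.dvd_of_mul_dvd_mul_left (by norm_num) hdA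
    have hco : Nat.Coprime j (2 ^ 3) := (Nat.Coprime.pow_left 3
      ((Nat.Prime.coprime_iff_not_dvd Nat.prime_two).2 fun hd => hodd (by
        obtain ⟨i, hi⟩ := hd
        exact ⟨15 * i, by subst hi; omega⟩))).symm
    exact hco.dvd_of_dvd_mul_left hjd
  -- the index of the normaliser of `L`
  set N := normalizer (L : Set P)
  obtain ⟨n, hn, hnm⟩ : ∃ n, N.index = n ∧ n ∣ m := by
    refine ⟨_, rfl, ?_⟩
    have h1 : 120 ∣ Nat.card N := by
      have a : 60 ∣ Nat.card N := hcL ▸ Subgroup.card_dvd_of_le le_normalizer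
      have b : 8 ∣ Nat.card N := hS ▸ Subgroup.card_dvd_of_le h.norm
      exact Nat.lcm_dvd a b
    obtain ⟨i, hi⟩ := h1
    have e := N.card_mul_index
    rw [hi, hm, mul_assoc] at e
    exact ⟨i, by rw [← Nat.eq_of_mul_eq_mul_left (by norm_num) e]; ring⟩
  have hn4 : 4 ≤ n := by
    by_contra hlt
    set f := MulAction.toPermHom P (P ⧸ N)
    have hperm : Nat.card (Equiv.Perm (P ⧸ N)) ∣ 6 := by
      rw [Nat.card_perm, ← Subgroup.index_eq_card, hn]
      exact (Nat.factorial_dvd_factorial (show n ≤ 3 by omega)).trans (dvd_of_eq rfl)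
    obtain ⟨b, hb, hbk, hb1⟩ : ∃ b ∈ B, b ∈ f.ker ∧ b ≠ 1 := by
      by_contra hcon
      push Not at hcon
      have hinj : Function.Injective (f.comp B.subtype) :=
        (MonoidHom.ker_eq_bot_iff _).1 ((Subgroup.eq_bot_iff_forall _).2 fun b hb =>
          Subtype.ext (hcon b.1 b.2 (MonoidHom.mem_ker.2 (MonoidHom.mem_ker.1 hb))))
      have := (Subgroup.card_dvd_of_injective _ hinj).trans hperm
      rw [hcB] at this
      norm_num at this
    have hBk : B ≤ f.ker := by
      intro x hx
      obtain ⟨s, rfl⟩ := D.exists_u hx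
      obtain ⟨s₀, rfl⟩ := D.exists_u hb
      have hs₀ : s₀ ≠ 0 := fun e => hb1 (by rw [e, u_zero])
      haveI := D.charP h.exp
      have hr2 : ringChar D.F = 2 := ringChar.eq D.F 2
      obtain ⟨c, hc⟩ := FiniteField.isSquare_of_char_two hr2 (s / s₀)
      by_cases hs : s = 0
      · rw [hs, u_zero]; exact one_mem _
      have hc0 : c ≠ 0 := fun e => div_ne_zero hs hs₀ (by rw [hc, e, mul_zero])
      let T : SL(2, D.F) := ⟨!![c, 0; 0, c⁻¹], by simp [Matrix.det_fin_two, hc0]⟩
      have e1 : T * upperUni s₀ = upperUni s * T := by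
        refine Subtype.ext ?_
        rw [Matrix.SpecialLinearGroup.coe_mul, Matrix.SpecialLinearGroup.coe_mul, upperUni_val,
          upperUni_val]
        have hsc : c * s₀ = s * c⁻¹ := by
          rw [eq_mul_inv_iff_mul_eq₀ hc0]
          field_simp at hc
          linear_combination -hc
        ext i j
        fin_cases i <;> fin_cases j <;> simp [T, Matrix.mul_apply, Fin.sum_univ_two, hsc]
      have e2 : ((D.φ.symm T : L) : P) * D.u s₀ * ((D.φ.symm T : L) : P)⁻¹ = D.u s := by
        rw [mul_inv_eq_iff_eq_mul]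
        have e3 := congrArg (fun g => ((D.φ.symm g : L) : P)) e1
        simp only [map_mul, Subgroup.coe_mul] at e3
        exact e3
      rw [← e2]
      exact (inferInstance : f.ker.Normal).conj_mem _ hbk _
    refine hL (h.normal_of_forall fun g => ?_)
    have hgN : cj g B ≤ N := by
      rintro _ ⟨x, hx, rfl⟩
      have hk := (inferInstance : f.ker.Normal).conj_mem x (hBk hx) g
      rw [← Subgroup.normalCore_eq_ker] at hk
      exact N.normalCore_le hk
    obtain ⟨Q, hQ⟩ := ((h.data.isMinOff.map_cj g).isPGroup h.inj h.exp |>.comap_subtype (K := N)).exists_le_sylow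
    obtain ⟨x, hx⟩ := MulAction.exists_smul_eq N Q (S.subtype h.norm)
    have hle : cj (x : P) (cj g B) ≤ (S : Subgroup P) := by
      rintro _ ⟨y, hy, rfl⟩
      have hy' : (⟨y, hgN hy⟩ : N) ∈ (Q : Subgroup N) := hQ hy
      have h2 : x * ⟨y, hgN hy⟩ * x⁻¹ ∈ ((S.subtype h.norm : Sylow 2 N) : Subgroup N) := by
        rw [← hx, Sylow.coe_subgroup_smul, mem_pointwise_smul_iff_inv_smul_mem]
        simpa [MulAut.smul_def, mul_assoc] using hy'
      exact mem_subgroupOf.1 h2
    have he := h.eq_root_of_le ((h.data.isMinOff.map_cj g).map_cj _) hle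
    rw [← cj_inv_cj (x : P) (cj g B), he]
    exact (cj_mono D.le).trans (cj_eq_self.2 (inv_mem x.2)).le
  -- trivial core and non-solvability
  have hcore : Cfsg.pCore 2 P = ⊥ := by
    refine le_bot_iff.1 (sSup_le ?_)
    rintro M ⟨hM, hM2⟩
    haveI := hM
    have hMS : M ≤ (S : Subgroup P) := normal_le_sylow M hM2
    intro x hx
    refine mem_bot.2 (h.inj (AddMonoidHom.ext fun v => ?_))
    show σ x v = σ 1 v
    rw [apply_one]
    by_cases hv : v = 0
    · rw [hv, map_zero]
    obtain ⟨l, -, hl⟩ := h.exists_apply_eq hv0 hv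
    have h1 := hv₀ _ (hMS (hM.conj_mem x hx l⁻¹))
    rw [inv_inv, apply_mul, apply_mul, hl] at h1
    rw [← hl]
    conv_rhs => rw [← h1]
    rw [apply_apply_inv, hl]
  have hns : ¬ Group.IsSolvable P := fun hs => by
    haveI := hs
    have hSLs : Group.IsSolvable (SL(2, D.F)) :=
      Group.isSolvable_of_surjective (f := D.φ.toMonoidHom) D.φ.surjective
    haveI := hSLs
    haveI : Nontrivial (SL(2, D.F)) := Finite.one_lt_card_iff_nontrivial.1 (by
      rw [card_SL_two, hFf]; norm_num)
    have := Group.IsSolvable.commutator_lt_top_of_nontrivial (SL(2, D.F))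
    rw [CfsgLib.Forms4.commutator_SL_two hFf.ge] at this
    exact lt_irrefl _ this
  -- the list
  have hcard : Nat.card P = 840 ∨ Nat.card P = 2520 := by
    have hmem : m ∈ Nat.divisors 21 := Nat.mem_divisors.2 ⟨hm21, by norm_num⟩
    have h4 : 4 ≤ m := hn4.trans (Nat.le_of_dvd (Nat.pos_of_dvd_of_pos hm21 (by norm_num)) hnm)
    have key : ∀ d ∈ Nat.divisors 21, 4 ≤ d → d = 7 ∨ d = 21 := by decide +kernel
    rcases key m hmem h4 with e | e <;> [left; right] <;> rw [hm, e]
  rcases CfsgLib.GLFourTwo.bigList_of_embedding φA hφA hns hcore with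
    (⟨⟨e⟩⟩ | ⟨⟨e⟩⟩ | ⟨⟨e⟩⟩ | ⟨⟨e⟩⟩) | h7 | ⟨⟨e⟩⟩ | ⟨⟨e⟩⟩ | ⟨M, hM, hM3, he⟩
  · have := CfsgLib.GLFourTwo.card_alt 5 (by norm_num)
    rw [← Nat.card_congr e.toEquiv, show (5 : ℕ).factorial = 120 from rfl] at this
    omega
  · have := CfsgLib.GLFourTwo.card_alt 6 (by norm_num)
    rw [← Nat.card_congr e.toEquiv, show (6 : ℕ).factorial = 720 from rfl] at this
    omega
  · have := Nat.card_congr e.toEquiv
    rw [Nat.card_perm, Nat.card_fin, show (5 : ℕ).factorial = 120 from rfl] at this
    omega
  · have := Nat.card_congr e.toEquiv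
    rw [Nat.card_perm, Nat.card_fin, show (6 : ℕ).factorial = 720 from rfl] at this
    omega
  · exact h7
  · have := Nat.card_congr e.toEquiv
    rw [CfsgLib.GLFourTwo.card_alternating_eight] at this
    omega
  · have := Nat.card_congr e.toEquiv
    rw [CfsgLib.GLFourTwo.card_GL32] at this
    omega
  · exfalso
    have hmul := M.card_mul_index
    rw [hM3, Subgroup.index_eq_card] at hmul
    rcases he with ⟨⟨e⟩⟩ | ⟨⟨e⟩⟩
    · have := CfsgLib.GLFourTwo.card_alt 5 (by norm_num)
      rw [← Nat.card_congr e.toEquiv, show (5 : ℕ).factorial = 120 from rfl] at this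
      omega
    · have := Nat.card_congr e.toEquiv
      rw [Nat.card_perm, Nat.card_fin, show (5 : ℕ).factorial = 120 from rfl] at this
      omega

end Setting

end CfsgLib.FFNatural
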